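import Cfsg.Agent.H2.Fi23C.Basic
import Cfsg.Agent.H50.AutPSUCard
import Cfsg.Agent.H50.Simple

/-!
S3233: a normal four-group `W` whose centraliser is `2².U₆(2)` gives the third alternative.
-/

set_option autoImplicit false
set_option linter.unusedSectionVars false

namespace H35.Fi23C

open H2.Fi23C

universe u v w

/-- The quotient by a normal `W`. -/
theorem altW : AltWStmt.{u, v, w} := by
  classical
  intro G _ _ F _ _ K _ _ hK z a b c J K₀ π S hlive hnorm
  obtain ⟨-, X₀, hXab, hidx, hXz, f, hf, hfk⟩ := hlive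
  -- the four group
  have hba : b * a = a * b := S.ab_comm.eq.symm
  have haa : ∀ x : G, a * (a * x) = x := fun x => by rw [← mul_assoc, S.a_sq, one_mul]
  have hbb : ∀ x : G, b * (b * x) = x := fun x => by rw [← mul_assoc, S.b_sq, one_mul]
  have hba' : ∀ x : G, b * (a * x) = a * (b * x) := fun x => by
    rw [← mul_assoc, hba, mul_assoc]
  have inW_mul : ∀ p q, InW a b p → InW a b q → InW a b (p * q) := by
    intro p q hp hq
    rcases hp with rfl | rfl | rfl | rfl <;> rcases hq with rfl | rfl | rfl | rfl <;>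
      simp only [InW, one_mul, mul_one, mul_assoc, S.a_sq, S.b_sq, hba, haa, hbb, hba', true_or,
        or_true]
  have inW_sq : ∀ p, InW a b p → p * p = 1 := by
    rintro p (rfl | rfl | rfl | rfl)
    · exact one_mul 1
    · exact S.a_sq
    · exact S.b_sq
    · rw [mul_assoc, hba', S.b_sq, mul_one, S.a_sq]
  let W : Subgroup G :=
    { carrier := {p | InW a b p}
      one_mem' := Or.inl rfl
      mul_mem' := fun {p q} hp hq => inW_mul p q hp hq
      inv_mem' := fun {p} hp => by
        rw [Set.mem_ofPred_eq, inv_eq_of_mul_eq_one_right (inW_sq p hp)]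
        exact hp }
  have hW : ∀ p, p ∈ W ↔ InW a b p := fun p => Iff.rfl
  have hWn : W.Normal := ⟨fun n hn g => hnorm g n hn⟩
  have hab1 : a * b ≠ 1 := fun h => S.b_ne.2.2.1 (by
    rw [← inv_eq_of_mul_eq_one_right S.a_sq, inv_eq_of_mul_eq_one_right h])
  have habb : a * b ≠ b := fun h => S.a_ne.1 (mul_eq_right.1 h)
  have haba : a * b ≠ a := fun h => S.b_ne.1 (mul_eq_left.1 h)
  have hcardW : Nat.card W = 4 := by
    have e : (W : Set G) = {1, a, b, a * b} := by ext p; rfl
    have h4 : ({1, a, b, a * b} : Set G).ncard = 4 := by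
      rw [Set.ncard_insert_of_notMem, Set.ncard_insert_of_notMem, Set.ncard_pair habb.symm]
      · simp [S.b_ne.2.2.1.symm, haba.symm]
      · simp [S.a_ne.1.symm, S.b_ne.1.symm, hab1.symm]
    show Nat.card (W : Set G) = 4
    rw [Nat.card_coe_set_eq, e, h4]
  -- its centraliser
  have hWX : ∀ p, InW a b p → ∀ x ∈ X₀, Commute x p := by
    rintro p (rfl | rfl | rfl | rfl) x hx
    · exact Commute.one_right x
    · exact (hXab x hx).1
    · exact (hXab x hx).2
    · exact (hXab x hx).1.mul_right (hXab x hx).2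
  obtain ⟨o, hoC, hoa, hob⟩ := S.outer
  have hX : ∀ g, g ∈ X₀ ↔ Commute g a ∧ Commute g b := by
    refine fun g => ⟨hXab g, fun hg => ?_⟩
    by_contra hn
    have hoX : o ∉ X₀ := fun h => by
      have := (hXab o h).2
      rw [this.eq, mul_inv_cancel_right] at hob
      exact habb hob.symm
    have h1 := (Subgroup.mul_mem_iff_of_index_two hidx
      (a := (⟨g, Subgroup.mem_centralizer_singleton_iff.2 hg.1.eq⟩ :
        ↥(Subgroup.centralizer ({a} : Set G))))
      (b := ⟨o, Subgroup.mem_centralizer_singleton_iff.2 (mul_inv_eq_iff_eq_mul.1 hoa)⟩)).2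
      (iff_of_false hn hoX)
    have h2 : Commute (g * o) b := (hXab _ h1).2
    have h3 : Commute o b := by
      have := hg.2.inv_left.mul_left h2
      rwa [inv_mul_cancel_left] at this
    rw [h3.eq, mul_inv_cancel_right] at hob
    exact habb hob.symm
  have hXn : ∀ g : G, ∀ x ∈ X₀, g * x * g⁻¹ ∈ X₀ := fun g x hx => by
    have h : ∀ p, InW a b p → Commute (g * x * g⁻¹) p := fun p hp => by
      have h1 := (hWX _ (hnorm g⁻¹ p hp) x hx).map (MulAut.conj g).toMonoidHom
      simpa [mul_assoc] using h1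
    exact (hX _).2 ⟨h a (Or.inr (Or.inl rfl)), h b (Or.inr (Or.inr (Or.inl rfl)))⟩
  have hWle : W ≤ X₀ := fun p hp => (hX p).2 (by
    rcases hp with rfl | rfl | rfl | rfl
    · exact ⟨Commute.one_left _, Commute.one_left _⟩
    · exact ⟨Commute.refl _, S.ab_comm⟩
    · exact ⟨S.ab_comm.symm, Commute.refl _⟩
    · exact ⟨(Commute.refl a).mul_left S.ab_comm.symm, S.ab_comm.mul_left (Commute.refl b)⟩)
  -- the index of the centraliser
  have hidx3 : (Subgroup.centralizer ({a} : Set G)).index = 3 := by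
    let e : G ⧸ Subgroup.centralizer ({a} : Set G) → ({a, b, a * b} : Set G) :=
      fun q => ⟨q.out * a * q.out⁻¹, by
        rcases hnorm q.out a (Or.inr (Or.inl rfl)) with h | h | h | h
        · exact absurd (conj_eq_one_iff.1 h) S.a_ne.1
        · exact Or.inl h
        · exact Or.inr (Or.inl h)
        · exact Or.inr (Or.inr h)⟩
    have he : ∀ g : G, (e (g : G ⧸ Subgroup.centralizer ({a} : Set G)) : G) = g * a * g⁻¹ := by
      intro g
      obtain ⟨k, hk⟩ := QuotientGroup.mk_out_eq_mul (Subgroup.centralizer ({a} : Set G)) g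
      show Quotient.out _ * a * (Quotient.out _)⁻¹ = _
      rw [hk, show g * k * a * (g * k)⁻¹ = g * (k * a * (k : G)⁻¹) * g⁻¹ by group,
        Subgroup.mem_centralizer_singleton_iff.1 k.2, mul_inv_cancel_right]
    have hbij : Function.Bijective e := by
      constructor
      · intro p q h
        induction p using QuotientGroup.induction_on with
        | H g =>
          induction q using QuotientGroup.induction_on with
          | H k =>
            have h' : g * a * g⁻¹ = k * a * k⁻¹ := by rw [← he g, ← he k, h]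
            rw [QuotientGroup.eq, Subgroup.mem_centralizer_singleton_iff]
            calc g⁻¹ * k * a = g⁻¹ * (k * a * k⁻¹) * k := by group
              _ = g⁻¹ * (g * a * g⁻¹) * k := by rw [h']
              _ = a * (g⁻¹ * k) := by group
      · rintro ⟨p, hp⟩
        rcases hp with rfl | rfl | rfl
        · exact ⟨((1 : G) : G ⧸ _), Subtype.ext ((he 1).trans (by group))⟩
        · exact ⟨(c : G ⧸ _), Subtype.ext ((he c).trans S.c_a)⟩
        · refine ⟨((c * c : G) : G ⧸ _), Subtype.ext ((he (c * c)).trans ?_)⟩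
          rw [show c * c * a * (c * c)⁻¹ = c * (c * a * c⁻¹) * c⁻¹ by group, S.c_a, S.c_b]
    show Nat.card (G ⧸ Subgroup.centralizer ({a} : Set G)) = 3
    rw [Nat.card_congr (Equiv.ofBijective e hbij), Nat.card_coe_set_eq,
      Set.ncard_insert_of_notMem, Set.ncard_pair habb.symm]
    simp [S.b_ne.2.2.1.symm, haba.symm]
  have hX6 : X₀.index = 6 := by
    have hle : X₀ ≤ Subgroup.centralizer ({a} : Set G) := fun x hx =>
      Subgroup.mem_centralizer_singleton_iff.2 (hXab x hx).1.eq
    have h := Subgroup.relIndex_mul_index hle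
    rw [hidx3, show X₀.relIndex (Subgroup.centralizer ({a} : Set G)) = 2 from hidx] at h
    omega
  have hWrel : W.relIndex X₀ = Nat.card (Cfsg.PSU 6 K 2) := by
    have e : W.subgroupOf X₀ = f.ker := by
      ext x
      rw [Subgroup.mem_subgroupOf, MonoidHom.mem_ker, hfk]
      rfl
    show (W.subgroupOf X₀).index = _
    rw [e, Subgroup.index_ker, MonoidHom.range_eq_top.2 hf, Subgroup.card_top]
  -- the action on the quotient
  choose sec hsec using hf
  have key : ∀ (g : G) (x y : ↥X₀), f x = f y →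
      f ⟨g * x * g⁻¹, hXn g x x.2⟩ = f ⟨g * y * g⁻¹, hXn g y y.2⟩ := by
    intro g x y h
    rw [← mul_inv_eq_one, ← map_inv, ← map_mul, hfk]
    have h1 : InW a b ((x : G) * (y : G)⁻¹) := (hfk (x * y⁻¹)).1 (by rw [map_mul, map_inv, h, mul_inv_cancel])
    have h2 := hnorm g _ h1
    rw [show g * ((x : G) * (y : G)⁻¹) * g⁻¹ = g * x * g⁻¹ * (g * y * g⁻¹)⁻¹ by group] at h2
    exact h2
  let act : G → Cfsg.PSU 6 K 2 → Cfsg.PSU 6 K 2 :=
    fun g p => f ⟨g * sec p * g⁻¹, hXn g _ (sec p).2⟩
  have hact : ∀ (g : G) (x : ↥X₀), f ⟨g * x * g⁻¹, hXn g x x.2⟩ = act g (f x) :=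
    fun g x => key g x _ (hsec _).symm
  have act_mul : ∀ g h p, act (g * h) p = act g (act h p) := fun g h p => by
    show f _ = act g (f _)
    rw [← hact g]
    congr 1
    apply Subtype.ext
    show g * h * sec p * (g * h)⁻¹ = g * (h * sec p * h⁻¹) * g⁻¹
    group
  have act_one : ∀ p, act 1 p = p := fun p => by
    refine (congrArg f (Subtype.ext ?_)).trans (hsec p)
    show (1 : G) * sec p * 1⁻¹ = sec p
    group
  have act_hom : ∀ g p q, act g (p * q) = act g p * act g q := fun g p q => by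
    conv_lhs => rw [← hsec p, ← hsec q, ← map_mul, ← hact g]
    rw [← map_mul]
    congr 1
    apply Subtype.ext
    show g * (sec p * sec q : ↥X₀) * g⁻¹ = g * sec p * g⁻¹ * (g * sec q * g⁻¹)
    rw [Subgroup.coe_mul]
    group
  let Θ : G →* MulAut (Cfsg.PSU 6 K 2) :=
    MonoidHom.mk' (fun g =>
      { toFun := act g
        invFun := act g⁻¹
        left_inv := fun p => by rw [← act_mul, inv_mul_cancel, act_one]
        right_inv := fun p => by rw [← act_mul, mul_inv_cancel, act_one]
        map_mul' := act_hom g }) fun g h => MulEquiv.ext (act_mul g h)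
  -- the kernel
  have hK₀ : K₀ ≤ X₀ := hXz ▸ inf_le_left
  have hJX : J ≤ X₀ := S.J_le.trans hK₀
  have hWJ : ∀ p, InW a b p → p ∈ J := by
    rintro p (rfl | rfl | rfl | rfl)
    exacts [J.one_mem, S.a_mem, S.b_mem, mul_mem S.a_mem S.b_mem]
  have hzW : ¬ InW a b z := by
    rintro (h | h | h | h)
    exacts [S.ne_one h, S.a_ne.2 h.symm, S.b_ne.2.1 h.symm, S.ab_ne h.symm]
  have hzC : ∀ g ∈ Subgroup.centralizer ({z} : Set G), Commute g z := fun g hg =>
    Subgroup.mem_centralizer_singleton_iff.1 hg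
  have hJC : ∀ p ∈ J, p ∈ Subgroup.centralizer ({z} : Set G) := fun p hp =>
    S.le_cent (S.J_le hp)
  -- the core is not abelian modulo its centre
  obtain ⟨p₀, hp₀, hp₀Z⟩ : ∃ p ∈ J, ¬ InZ z a b p := by
    by_contra hall
    push Not at hall
    have hsub : (J : Set G) ⊆
        ↑(({1, a, b, a * b} : Finset G) ∪ ({1, a, b, a * b} : Finset G).image fun w => w * z) := by
      intro p hp
      simp only [Finset.coe_union, Finset.coe_image, Finset.coe_insert, Finset.coe_singleton,
        Set.mem_union, Set.mem_image]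
      rcases hall p hp with h | h
      · exact Or.inl h
      · refine Or.inr ⟨p * z, h, ?_⟩
        rw [mul_assoc, S.sq, mul_one]
    have h1 := Set.ncard_le_ncard hsub (Finset.finite_toSet _)
    rw [Set.ncard_coe_finset, ← Nat.card_coe_set_eq] at h1
    have h2 : Nat.card (J : Set G) = 2 ^ 11 := S.card_J
    have h3 := Finset.card_union_le ({1, a, b, a * b} : Finset G)
      (({1, a, b, a * b} : Finset G).image fun w => w * z)
    have h4 : ({1, a, b, a * b} : Finset G).card ≤ 4 := Finset.card_le_four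
    have h5 := Finset.card_image_le (s := ({1, a, b, a * b} : Finset G)) (f := fun w => w * z)
    omega
  obtain ⟨q₀, hq₀, hpq⟩ : ∃ q ∈ J, p₀ * q = q * p₀ * z := by
    by_contra hall
    exact hp₀Z (S.center p₀ hp₀ fun q hq =>
      (S.comm_mem p₀ hp₀ q hq).resolve_right fun h => hall ⟨q, hq, h⟩)
  have hker : ∀ g, Θ g = 1 ↔ g ∈ W := by
    intro g
    constructor
    · intro hg
      have htw : ∀ x ∈ X₀, InW a b (x⁻¹ * (g * x * g⁻¹)) := fun x hx => by
        have h : act g (f ⟨x, hx⟩) = f ⟨x, hx⟩ := DFunLike.congr_fun hg (f ⟨x, hx⟩)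
        rw [← hact g ⟨x, hx⟩] at h
        exact (hfk ((⟨x, hx⟩ : ↥X₀)⁻¹ * ⟨g * x * g⁻¹, hXn g x hx⟩)).1
          (by rw [map_mul, map_inv, h, inv_mul_cancel])
      -- `g` centralises `z`
      have hgz : Commute g z := by
        have hzz : p₀⁻¹ * q₀⁻¹ * p₀ * q₀ = z := by
          rw [mul_assoc (p₀⁻¹ * q₀⁻¹), hpq]; group
        refine mul_inv_eq_iff_eq_mul.1 ?_
        obtain ⟨w₁, hw₁, e₁⟩ : ∃ w, InW a b w ∧ g * p₀ * g⁻¹ = p₀ * w :=
          ⟨_, htw p₀ (hJX hp₀), (mul_inv_cancel_left _ _).symm⟩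
        obtain ⟨w₂, hw₂, e₂⟩ : ∃ w, InW a b w ∧ g * q₀ * g⁻¹ = q₀ * w :=
          ⟨_, htw q₀ (hJX hq₀), (mul_inv_cancel_left _ _).symm⟩
        have c1 := fun x (hx : x ∈ X₀) => (hWX w₁ hw₁ x hx).eq
        have c2 := fun x (hx : x ∈ X₀) => (hWX w₂ hw₂ x hx).eq
        calc g * z * g⁻¹
            = (g * p₀ * g⁻¹)⁻¹ * (g * q₀ * g⁻¹)⁻¹ * (g * p₀ * g⁻¹) * (g * q₀ * g⁻¹) := by
              rw [← hzz]; group
          _ = w₁⁻¹ * p₀⁻¹ * (w₂⁻¹ * q₀⁻¹) * (p₀ * w₁) * (q₀ * w₂) := by
              rw [e₁, e₂, mul_inv_rev, mul_inv_rev]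
          _ = w₁⁻¹ * ((p₀⁻¹ * w₂⁻¹) * q₀⁻¹ * p₀ * (w₁ * q₀)) * w₂ := by group
          _ = w₁⁻¹ * ((w₂⁻¹ * p₀⁻¹) * q₀⁻¹ * p₀ * (q₀ * w₁)) * w₂ := by
              rw [← c1 q₀ (hJX hq₀),
                ((hWX w₂ hw₂ p₀ (hJX hp₀)).inv_left.inv_right).eq]
          _ = w₁⁻¹ * w₂⁻¹ * ((p₀⁻¹ * q₀⁻¹ * p₀ * q₀) * w₁) * w₂ := by group
          _ = z := by
              rw [hzz, c1 z (hJX S.z_mem),
                show w₁⁻¹ * w₂⁻¹ * (w₁ * z) * w₂ = w₁⁻¹ * (w₂⁻¹ * (w₁ * z) * w₂) by group,
                ← ((hWX w₂ hw₂ _ (mul_mem (hWle hw₁) (hJX S.z_mem))).inv_right).eq]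
              group
      have hgC : g ∈ Subgroup.centralizer ({z} : Set G) :=
        Subgroup.mem_centralizer_singleton_iff.2 hgz.eq
      -- modulo `⟨c⟩` it lies in the core
      obtain ⟨i, j, hj, hij⟩ := S.inner g hgC fun h hh => by
        have h1 := htw h (hK₀ hh)
        have h2 : g * h * g⁻¹ * h⁻¹ = h * (h⁻¹ * (g * h * g⁻¹)) * h⁻¹ := by group
        rw [h2, (hWX _ h1 h (hK₀ hh)).eq, mul_inv_cancel_right]
        exact hWJ _ h1
      have hci : ∀ p ∈ J, InZ z a b (c ^ i * p * (c ^ i)⁻¹ * p⁻¹) := by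
        intro p hp
        have h1 : InW a b (g * p * g⁻¹ * p⁻¹) := by
          have h2 := htw p (hJX hp)
          rwa [show g * p * g⁻¹ * p⁻¹ = p * (p⁻¹ * (g * p * g⁻¹)) * p⁻¹ by group,
            (hWX _ h2 p (hJX hp)).eq, mul_inv_cancel_right]
        rcases S.comm_mem j hj p hp with h | h
        · left
          rwa [hij, show c ^ i * j * p * (c ^ i * j)⁻¹ = c ^ i * (j * p * j⁻¹) * (c ^ i)⁻¹ by group,
            h, mul_inv_cancel_right] at h1
        · right
          have hci' : c ^ i ∈ Subgroup.centralizer ({z} : Set G) := pow_mem S.c_mem i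
          rw [hij, show c ^ i * j * p * (c ^ i * j)⁻¹ = c ^ i * (j * p * j⁻¹) * (c ^ i)⁻¹ by group,
            h, show p * j * z * j⁻¹ = p * (j * z * j⁻¹) by group, (hzC j (hJC j hj)).eq,
            mul_inv_cancel_right,
            show c ^ i * (p * z) * (c ^ i)⁻¹ = c ^ i * p * (c ^ i)⁻¹ * (c ^ i * z * (c ^ i)⁻¹) by
              group, (hzC _ hci').eq, mul_inv_cancel_right] at h1
          rwa [mul_assoc _ z p⁻¹, ← (hzC _ (inv_mem (hJC p hp))).eq, ← mul_assoc] at h1
      have hc1 : c ^ i = 1 := by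
        rw [← Nat.mod_add_div i 3, pow_add, pow_mul, S.c_pow, one_pow, mul_one]
        have hmod := Nat.mod_lt i (show 3 > 0 by norm_num)
        have heq : c ^ i = c ^ (i % 3) := by
          conv_lhs => rw [← Nat.mod_add_div i 3, pow_add, pow_mul, S.c_pow, one_pow, mul_one]
        interval_cases hi : i % 3
        · exact pow_zero c
        · exfalso
          rw [heq, pow_one] at hci
          exact hp₀Z (S.c_fix p₀ hp₀ (hci p₀ hp₀))
        · exfalso
          -- the square of `c` fixing the core modulo its centre makes `c` do so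
          rw [heq] at hci
          refine hp₀Z (S.c_fix p₀ hp₀ ?_)
          have hq : c * p₀ * c⁻¹ ∈ J := S.conj_mem c S.c_mem p₀ hp₀
          have h1 := hci _ hq
          have e : c ^ 2 * (c * p₀ * c⁻¹) * (c ^ 2)⁻¹ = p₀ := by
            rw [show c ^ 2 * (c * p₀ * c⁻¹) * (c ^ 2)⁻¹ = c ^ 3 * p₀ * (c ^ 3)⁻¹ by group, S.c_pow]
            group
          rw [e] at h1
          -- inverses stay in the centre
          have hinv : ∀ r, InZ z a b r → r⁻¹ = r := by
            intro r hr
            rcases hr with hr | hr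
            · exact inv_eq_of_mul_eq_one_right (inW_sq r hr)
            · have hc' : Commute (r * z) z := (hWX _ hr z (hJX S.z_mem)).symm
              have e2 : r = r * z * z := by rw [mul_assoc, S.sq, mul_one]
              refine inv_eq_of_mul_eq_one_right ?_
              rw [e2, hc'.symm.mul_mul_mul_comm, inW_sq _ hr, S.sq, one_mul]
          rw [← hinv _ h1] at h1
          simpa [mul_assoc] using h1
      rw [hc1, one_mul] at hij
      have hgJ : g ∈ J := hij ▸ hj
      have hcomm : ∀ p ∈ J, Commute g p := fun p hp => by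
        have h2 := htw p (hJX hp)
        rcases S.comm_mem g hgJ p hp with h | h
        · exact h
        · exfalso
          rw [h, show p⁻¹ * (p * g * z * g⁻¹) = g * z * g⁻¹ by group, hgz.eq,
            mul_inv_cancel_right] at h2
          exact hzW h2
      rcases S.center g hgJ hcomm with h | h
      · exact h
      · exfalso
        -- `z` would be central modulo `W`
        have hzc : ∀ x ∈ X₀, InW a b (x⁻¹ * (z * x * z⁻¹)) := fun x hx => by
          have hx' : (g * z) * x * (g * z)⁻¹ = x := by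
            rw [← (hWX _ h x hx).eq, mul_inv_cancel_right]
          have h2 := htw x hx
          have h3 : g = g * z * z := by rw [mul_assoc, S.sq, mul_one]
          have h4 : z * x * z⁻¹ = g * x * g⁻¹ := by
            conv_rhs => rw [h3]
            rw [show g * z * z * x * (g * z * z)⁻¹ = (g * z) * (z * x * z⁻¹) * (g * z)⁻¹ by group,
              ← (hWX _ h _ (hXn z x hx)).eq, mul_inv_cancel_right]
          rw [h4]
          exact h2
        haveI : IsSimpleGroup (Cfsg.PSU 6 K 2) :=
          H50.PSU_isSimple (by rw [hK]; norm_num) (by norm_num) (by norm_num)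
        have hcz : f ⟨z, hJX S.z_mem⟩ ∈ Subgroup.center (Cfsg.PSU 6 K 2) := by
          refine Subgroup.mem_center_iff.2 fun p => ?_
          rw [← hsec p]
          have h1 := (hfk ((sec p)⁻¹ * (⟨z, hJX S.z_mem⟩ * sec p * ⟨z, hJX S.z_mem⟩⁻¹))).2
            (hzc _ (sec p).2)
          rw [map_mul, map_mul, map_mul, map_inv, map_inv, inv_mul_eq_one] at h1
          exact eq_mul_inv_iff_mul_eq.1 h1
        rcases IsSimpleGroup.eq_bot_or_eq_top_of_normal _
          (inferInstance : (Subgroup.center (Cfsg.PSU 6 K 2)).Normal) with hb | hb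
        · rw [hb, Subgroup.mem_bot, hfk] at hcz
          exact hzW hcz
        · refine hzW ((hfk ⟨z, hJX S.z_mem⟩).1 ?_)
          have hz' : (⟨z, hJX S.z_mem⟩ : ↥X₀) =
              (⟨p₀, hJX hp₀⟩ : ↥X₀)⁻¹ * ⟨q₀, hJX hq₀⟩⁻¹ * ⟨p₀, hJX hp₀⟩ * ⟨q₀, hJX hq₀⟩ := by
            apply Subtype.ext
            show z = p₀⁻¹ * q₀⁻¹ * p₀ * q₀
            rw [mul_assoc (p₀⁻¹ * q₀⁻¹), hpq]; group
          have hc2 := Subgroup.mem_center_iff.1
            (hb ▸ Subgroup.mem_top (f ⟨p₀, hJX hp₀⟩)) (f ⟨q₀, hJX hq₀⟩)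
          rw [hz', map_mul, map_mul, map_mul, map_inv, map_inv,
            mul_assoc (_ * _) (f ⟨p₀, _⟩), ← hc2]
          group
    · intro hg
      refine MulEquiv.ext fun p => ?_
      show act g p = p
      refine (congrArg f (Subtype.ext ?_)).trans (hsec p)
      show g * sec p * g⁻¹ = sec p
      rw [← (hWX g hg _ (sec p).2).eq, mul_inv_cancel_right]
  have hcardAut : Nat.card (MulAut (Cfsg.PSU 6 K 2)) = 6 * Nat.card (Cfsg.PSU 6 K 2) := by
    haveI : Fact (Nat.Prime 2) := ⟨Nat.prime_two⟩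
    rw [H50.card_mulAut_PSU (by rw [hK]; norm_num) (p := 2) (f := 1) (by norm_num) (by norm_num)
      (by norm_num)]
    norm_num
  have hkerW : Θ.ker = W := by ext g; rw [MonoidHom.mem_ker, hker]
  have hΘ : Function.Surjective Θ := by
    rw [← MonoidHom.range_eq_top]
    refine Subgroup.eq_top_of_card_eq _ ?_
    rw [← Subgroup.index_ker, hkerW, hcardAut, ← Subgroup.relIndex_mul_index hWle, hWrel, hX6,
      mul_comm]
  refine ⟨W, hWn, hcardW, fun w hw => (pow_two w).trans (inW_sq w hw), ⟨?_⟩⟩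
  exact (QuotientGroup.quotientMulEquivOfEq hkerW.symm).trans
    (QuotientGroup.quotientKerEquivOfSurjective Θ hΘ)

end H35.Fi23C
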